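import Groth.Agent.ConstFam21.Invariance
import Groth.Agent.GeomFibre21.Main
import Groth.Agent.Lib.FEt21.UHEquiv
import Groth.Agent.Lib.PurInsep.EtaleHom

/-!
# Base change of covers of proper schemes along extensions of separably closed fields
-/

set_option autoImplicit false
set_option backward.isDefEq.respectTransparency false

universe u

open CategoryTheory CategoryTheory.Limits AlgebraicGeometry GrothLib.FEt21

namespace Groth.Agent.ConstFam21

/-- Restrictions along a commutative square. -/
noncomputable def squareIso {W A B X : Scheme.{u}} (a : W ⟶ A) (b : A ⟶ X) (c : W ⟶ B) (d : B ⟶ X)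
    (e : a ≫ b = c ≫ d) : FEt.restrict b ⋙ FEt.restrict a ≅ FEt.restrict d ⋙ FEt.restrict c :=
  (MorphismProperty.Over.pullbackComp (P := FEt.prop) (Q := ⊤) a b).symm ≪≫
    MorphismProperty.Over.pullbackCongr (Q := ⊤) e ≪≫
    MorphismProperty.Over.pullbackComp (P := FEt.prop) (Q := ⊤) c d

/-- The algebraically closed case. -/
theorem isEquivalence_of_algClosed {k K : Type u} [Field k] [IsAlgClosed k] [Field K] [IsAlgClosed K]
    [Algebra k K] {X : Scheme.{u}} (pX : X ⟶ Spec (CommRingCat.of k)) [IsProper pX] :
    (FEt.restrict (pullback.fst pX (Spec.map (CommRingCat.ofHom (algebraMap k K))))).IsEquivalence := by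
  let g := Spec.map (CommRingCat.ofHom (algebraMap k K))
  let J := Scheme.IdealSheafData.vanishingIdeal (X := X) ⊤
  let i : J.subscheme ⟶ X := J.subschemeι
  haveI : IsReduced J.subscheme := GrothLib.RedSub.isReduced_subscheme_vanishingIdeal _
  haveI : Surjective i := ⟨fun x => by
    show x ∈ Set.range J.subschemeι
    rw [Scheme.IdealSheafData.range_subschemeι]
    simp [J]⟩
  haveI : GeometricallyReduced (i ≫ pX) := GrothLib.UnitProd.geometricallyReduced_of_isReduced (i ≫ pX)
  haveI : Flat (i ≫ pX) := GrothLib.DiagGrp.flat_of_field _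
  haveI : HenselianLocalRing k := inferInstance
  haveI : IsSepClosed (IsLocalRing.ResidueField k) :=
    haveI : IsAlgClosed (IsLocalRing.ResidueField k) :=
      IsAlgClosed.of_ringEquiv k _ (RingEquiv.ofBijective (IsLocalRing.residue k)
        ⟨(IsLocalRing.residue k).injective, IsLocalRing.residue_surjective⟩)
    inferInstance
  obtain ⟨_, _⟩ := GeomFibre21.restrict_fullyFaithful (i ≫ pX) g
  let iK : pullback (i ≫ pX) g ⟶ pullback pX g :=
    pullback.map _ _ _ _ i (𝟙 _) (𝟙 _) (by simp) (by simp)
  haveI := isEquivalence_of_uh i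
  let α := squareIso (pullback.fst (i ≫ pX) g) i iK (pullback.fst pX g) (pullback.lift_fst _ _ _).symm
  haveI : (FEt.restrict i ⋙ FEt.restrict (pullback.fst (i ≫ pX) g)).Faithful := inferInstance
  haveI : (FEt.restrict i ⋙ FEt.restrict (pullback.fst (i ≫ pX) g)).Full := inferInstance
  haveI : (FEt.restrict (pullback.fst pX g) ⋙ FEt.restrict iK).Faithful := Functor.Faithful.of_iso α
  haveI : (FEt.restrict (pullback.fst pX g) ⋙ FEt.restrict iK).Full := Functor.Full.of_iso α
  haveI : IsClosedImmersion iK := MorphismProperty.pullbackMap (P := @IsClosedImmersion)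
    (f' := pX) (g' := g) inferInstance inferInstance rfl (Category.id_comp g).symm
  haveI : Surjective iK := MorphismProperty.pullbackMap (P := @Surjective)
    (f' := pX) (g' := g) inferInstance inferInstance rfl (Category.id_comp g).symm
  obtain ⟨_, _⟩ := fullyFaithful_of_uh iK
  haveI : (FEt.restrict (pullback.fst pX g)).Faithful := Functor.Faithful.of_comp _ (FEt.restrict iK)
  haveI : (FEt.restrict (pullback.fst pX g)).Full := Functor.Full.of_comp_faithful _ (FEt.restrict iK)
  haveI : (FEt.restrict (pullback.fst pX g)).EssSurj := ⟨fun V => exists_descent pX V⟩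
  exact {}

theorem uh_specMap (k k' : Type u) [Field k] [Field k'] [Algebra k k'] [IsPurelyInseparable k k'] :
    IsIntegralHom (Spec.map (CommRingCat.ofHom (algebraMap k k'))) ∧
    UniversallyInjective (Spec.map (CommRingCat.ofHom (algebraMap k k'))) ∧
    Surjective (Spec.map (CommRingCat.ofHom (algebraMap k k'))) :=
  ⟨IsIntegralHom.SpecMap_iff.mpr (algebraMap_isIntegral_iff.mpr inferInstance),
    GrothLib.PurInsep.universallyInjective_specMap k k',
    ⟨fun _ => ⟨IsLocalRing.closedPoint k', Subsingleton.elim (α := PrimeSpectrum k) _ _⟩⟩⟩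

/-- The separably closed case. -/
theorem isEquivalence_of_sepClosed (k K : Type u) [Field k] [Field K] [IsSepClosed k] [IsSepClosed K]
    [Algebra k K] {X : Scheme.{u}} (f : X ⟶ Spec (CommRingCat.of k)) [IsProper f] :
    (FEt.restrict (pullback.fst f (Spec.map (CommRingCat.ofHom (algebraMap k K))))).IsEquivalence := by
  let kb := AlgebraicClosure k
  let Kb := AlgebraicClosure K
  letI : Algebra k Kb := ((algebraMap K Kb).comp (algebraMap k K)).toAlgebra
  letI : Algebra kb Kb := (IsAlgClosed.lift : kb →ₐ[k] Kb).toRingHom.toAlgebra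
  haveI : IsPurelyInseparable k kb := inferInstance
  haveI : IsPurelyInseparable K Kb := inferInstance
  let a := Spec.map (CommRingCat.ofHom (algebraMap k kb))
  let b := Spec.map (CommRingCat.ofHom (algebraMap K Kb))
  let g := Spec.map (CommRingCat.ofHom (algebraMap k K))
  let t := Spec.map (CommRingCat.ofHom (algebraMap kb Kb))
  have htab : t ≫ a = b ≫ g := by
    rw [← Spec.map_comp, ← Spec.map_comp, ← CommRingCat.ofHom_comp, ← CommRingCat.ofHom_comp]
    congr 2
    exact (IsAlgClosed.lift : kb →ₐ[k] Kb).comp_algebraMap
  haveI : IsIntegralHom a := (uh_specMap k kb).1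
  haveI : UniversallyInjective a := (uh_specMap k kb).2.1
  haveI : Surjective a := (uh_specMap k kb).2.2
  haveI : IsIntegralHom b := (uh_specMap K Kb).1
  haveI : UniversallyInjective b := (uh_specMap K Kb).2.1
  haveI : Surjective b := (uh_specMap K Kb).2.2
  let u := pullback.fst f a
  haveI : IsIntegralHom u := MorphismProperty.pullback_fst _ _ inferInstance
  haveI : UniversallyInjective u := MorphismProperty.pullback_fst _ _ inferInstance
  haveI : Surjective u := MorphismProperty.pullback_fst _ _ inferInstance
  let W := pullback (pullback.snd f g) b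
  let v : W ⟶ pullback f g := pullback.fst _ _
  haveI : IsIntegralHom v := MorphismProperty.pullback_fst _ _ inferInstance
  haveI : UniversallyInjective v := MorphismProperty.pullback_fst _ _ inferInstance
  haveI : Surjective v := MorphismProperty.pullback_fst _ _ inferInstance
  let p := pullback.snd f a
  let n : W ⟶ pullback f a := pullback.lift (v ≫ pullback.fst f g) (pullback.snd _ _ ≫ t) (by
    rw [Category.assoc, Category.assoc, pullback.condition, htab, pullback.condition_assoc])
  have hsq : IsPullback n (pullback.snd _ _) p t := by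
    refine IsPullback.of_right (h₁₂ := u) (h₂₂ := a) (v₁₃ := f) ?_ (pullback.lift_snd _ _ _)
      (IsPullback.of_hasPullback f a)
    rw [pullback.lift_fst, htab]
    exact ((IsPullback.of_hasPullback (pullback.snd f g) b).flip.paste_vert
      (IsPullback.of_hasPullback f g).flip).flip
  haveI := isEquivalence_of_uh u
  haveI := isEquivalence_of_uh v
  haveI := isEquivalence_of_algClosed (K := Kb) p
  haveI := isEquivalence_of_uh hsq.isoPullback.hom
  let β : FEt.restrict (pullback.fst p t) ⋙ FEt.restrict hsq.isoPullback.hom ≅ FEt.restrict n :=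
    (MorphismProperty.Over.pullbackComp (P := FEt.prop) (Q := ⊤) hsq.isoPullback.hom (pullback.fst p t)).symm ≪≫
      MorphismProperty.Over.pullbackCongr (Q := ⊤) hsq.isoPullback_hom_fst
  haveI : (FEt.restrict n).IsEquivalence := Functor.isEquivalence_of_iso β
  haveI : (FEt.restrict (pullback.fst f g) ⋙ FEt.restrict v).IsEquivalence :=
    Functor.isEquivalence_of_iso (squareIso n u v (pullback.fst f g) (pullback.lift_fst _ _ _))
  exact Functor.isEquivalence_of_comp_right _ (FEt.restrict v)

end Groth.Agent.ConstFam21
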