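import Groth.Agent.ConstFam21.Main

/-!
# Isomorphisms of covers glue along connected components
-/

set_option autoImplicit false
set_option backward.isDefEq.respectTransparency false

universe u

open CategoryTheory CategoryTheory.Limits AlgebraicGeometry GrothLib.FEt21

namespace Groth.Agent.ConstFam21

theorem nonempty_iso_of_components {X : Scheme.{u}} [IsLocallyNoetherian X] (A B : FEt.Cat X)
    (h : ∀ O : X.Opens, ConnectedSpace (O : Scheme.{u}) →
      Nonempty ((FEt.restrict O.ι).obj A ≅ (FEt.restrict O.ι).obj B)) : Nonempty (A ≅ B) := by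
  classical
  let ι : Type u := {O : X.Opens // ∃ x : X, (O : Set X) = connectedComponent x}
  have hι : ∀ O : ι, ConnectedSpace (O.1 : Scheme.{u}) := fun O => by
    obtain ⟨x, hx⟩ := O.2
    exact isConnected_iff_connectedSpace.mp (hx ▸ isConnected_connectedComponent)
  let e := fun O : ι => Classical.choice (h O.1 (hι O))
  have hcov : TopologicalSpace.IsOpenCover fun O : ι => O.1 := TopologicalSpace.IsOpenCover.mk
    (eq_top_iff.2 fun x _ => TopologicalSpace.Opens.mem_iSup.2
      ⟨⟨⟨connectedComponent x, (isLocNoeth X).isOpen_connectedComponent x⟩, x, rfl⟩, mem_connectedComponent⟩)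
  let 𝒰 : Scheme.OpenCover.{u} A.left := (X.openCoverOfIsOpenCover _ hcov).pullback₁ A.hom
  let Φ : ∀ O : ι, pullback A.hom O.1.ι ⟶ B.left := fun O => (e O).hom.left ≫ pullback.fst B.hom O.1.ι
  have hΦ : ∀ O : ι, Φ O ≫ B.hom = pullback.fst A.hom O.1.ι ≫ A.hom := fun O => by
    rw [Category.assoc, pullback.condition (f := B.hom), pullback.condition (f := A.hom), ← Category.assoc]
    exact congrArg (· ≫ O.1.ι) (Over.w (e O).hom.hom)
  have hcompat : ∀ i j : ι, pullback.fst (pullback.fst A.hom i.1.ι) (pullback.fst A.hom j.1.ι) ≫ Φ i =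
      pullback.snd (pullback.fst A.hom i.1.ι) (pullback.fst A.hom j.1.ι) ≫ Φ j := fun i j => by
    by_cases hij : i = j
    · subst hij
      rw [(cancel_mono (pullback.fst A.hom i.1.ι)).1 pullback.condition]
    · let p := pullback.fst (pullback.fst A.hom i.1.ι) (pullback.fst A.hom j.1.ι)
      haveI : IsEmpty ↥(pullback (pullback.fst A.hom i.1.ι) (pullback.fst A.hom j.1.ι)) := ⟨fun x => by
        have hmem : ∀ (O : ι) (y : ↥(pullback A.hom O.1.ι)), A.hom (pullback.fst A.hom O.1.ι y) ∈ O.1 :=
          fun O y => by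
            rw [← Scheme.Hom.comp_apply, pullback.condition, Scheme.Hom.comp_apply]
            exact (pullback.snd A.hom O.1.ι y).2
        have h1 := hmem i (p x)
        have h2 := hmem j (pullback.snd (pullback.fst A.hom i.1.ι) (pullback.fst A.hom j.1.ι) x)
        have hpc : pullback.fst A.hom j.1.ι (pullback.snd (pullback.fst A.hom i.1.ι) (pullback.fst A.hom j.1.ι) x) = pullback.fst A.hom i.1.ι (p x) := by
          rw [← Scheme.Hom.comp_apply, ← pullback.condition, Scheme.Hom.comp_apply]
        rw [hpc] at h2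
        obtain ⟨xi, hxi⟩ := i.2
        obtain ⟨xj, hxj⟩ := j.2
        refine hij (Subtype.ext (TopologicalSpace.Opens.ext ?_))
        rw [← SetLike.mem_coe, hxi] at h1
        rw [← SetLike.mem_coe, hxj] at h2
        rw [hxi, hxj, connectedComponent_eq h1, connectedComponent_eq h2]⟩
      exact isInitialOfIsEmpty.hom_ext _ _
  let m : A.left ⟶ B.left := Scheme.Cover.glueMorphisms 𝒰 Φ hcompat
  have hm : ∀ O : ι, pullback.fst A.hom O.1.ι ≫ m = Φ O := fun O => Scheme.Cover.ι_glueMorphisms 𝒰 Φ hcompat O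
  let φ : A ⟶ B := MorphismProperty.Over.homMk m (Scheme.Cover.hom_ext 𝒰 _ _ fun O => by
    show pullback.fst A.hom O.1.ι ≫ m ≫ B.hom = pullback.fst A.hom O.1.ι ≫ A.hom
    rw [← Category.assoc, hm, hΦ])
  haveI : IsIso φ := isIso_of_bijective φ fun Ω _ _ ξ => by
    obtain ⟨O, hO⟩ := hcov.exists_mem (ξ default)
    have hr : Set.range ξ ⊆ Set.range O.1.ι := by
      rw [Scheme.Opens.range_ι]; exact range_point_subset ξ hO
    obtain ⟨l, rfl⟩ : ∃ l, l ≫ O.1.ι = ξ := ⟨_, IsOpenImmersion.lift_fac _ _ hr⟩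
    let E := ((restrEquiv O.1.ι l A).symm.trans ((FEt.fiber l).mapIso (e O)).toEquiv).trans (restrEquiv O.1.ι l B)
    have : ((FEt.fiber (l ≫ O.1.ι)).map φ : FEt.fiberObj _ A → FEt.fiberObj _ B) = E := funext fun z => by
      refine Subtype.ext ?_
      show z.1 ≫ m = (pullback.lift z.1 l z.2 ≫ (e O).hom.left) ≫ pullback.fst B.hom O.1.ι
      rw [Category.assoc, show (e O).hom.left ≫ pullback.fst B.hom O.1.ι = Φ O from rfl, ← hm, ← Category.assoc,
        pullback.lift_fst]
    rw [show ⇑(ConcreteCategory.hom ((FEt.fiber (l ≫ O.1.ι)).map φ)) = E from this]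
    exact E.bijective
  exact ⟨asIso φ⟩

end Groth.Agent.ConstFam21
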