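import Groth.Agent.ConstFam21.Product
import Groth.Agent.Lib.FEtLimit21.FgSub

/-!
# Invariance of finite étale covers under extensions of algebraically closed fields
-/

set_option autoImplicit false
set_option backward.isDefEq.respectTransparency false

universe u

open CategoryTheory CategoryTheory.Limits AlgebraicGeometry GrothLib.FEt21 GrothLib.FEtLimit21

namespace Groth.Agent.ConstFam21

/-- For `X` proper over an algebraically closed field, every cover of `X_K` comes from `X`. -/
theorem exists_descent {k K : Type u} [Field k] [IsAlgClosed k] [Field K] [IsAlgClosed K] [Algebra k K]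
    {X : Scheme.{u}} (pX : X ⟶ Spec (CommRingCat.of k)) [IsProper pX]
    (V : FEt.Cat (pullback pX (Spec.map (CommRingCat.ofHom (algebraMap k K))))) :
    ∃ V₀ : FEt.Cat X,
      Nonempty ((FEt.restrict (pullback.fst pX (Spec.map (CommRingCat.ofHom (algebraMap k K))))).obj V₀ ≅ V) := by
  haveI : CompactSpace X := QuasiCompact.compactSpace_of_compactSpace pX
  haveI : QuasiSeparatedSpace X := quasiSeparatedSpace_of_quasiSeparated pX
  obtain ⟨L, hL, VL, ⟨e⟩⟩ := FgSub.exists_cover_finSub K pX V
  haveI : Algebra.FiniteType k L := L.fg_iff_finiteType.mp hL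
  let pL := FgSub.stageMap K L
  haveI : LocallyOfFiniteType pL :=
    (HasRingHomProperty.Spec_iff (P := @LocallyOfFiniteType)).mpr
      (RingHom.finiteType_algebraMap.mpr inferInstance)
  haveI : IsLocallyNoetherian (Spec (CommRingCat.of L)) := LocallyOfFiniteType.isLocallyNoetherian pL
  haveI : ConnectedSpace ↥(Spec (CommRingCat.of L)) := inferInstanceAs (ConnectedSpace (PrimeSpectrum L))
  haveI : JacobsonSpace ↥(Spec (CommRingCat.of k)) := inferInstanceAs (JacobsonSpace (PrimeSpectrum k))
  haveI : JacobsonSpace ↥(Spec (CommRingCat.of L)) := LocallyOfFiniteType.jacobsonSpace pL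
  obtain ⟨c, -, hc⟩ := nonempty_inter_closedPoints (Z := (Set.univ : Set ↥(Spec (CommRingCat.of L))))
    ⟨(inferInstance : ConnectedSpace ↥(Spec (CommRingCat.of L))).toNonempty.some, trivial⟩
    isOpen_univ.isLocallyClosed
  let y := pointOfClosedPoint pL c hc
  have sy : y ≫ pL = 𝟙 _ := pointOfClosedPoint_comp _ c hc
  have hy : 𝟙 X ≫ pX = (pX ≫ y) ≫ pL := by rw [Category.assoc, sy, Category.comp_id, Category.id_comp]
  obtain ⟨e'⟩ := nonempty_iso_geom pX pL VL y sy hy
    (Spec.map (CommRingCat.ofHom (algebraMap L K))) (Spec.map (CommRingCat.ofHom (algebraMap k K)))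
    (by rw [← Spec.map_comp, ← CommRingCat.ofHom_comp, ← IsScalarTower.algebraMap_eq])
  exact ⟨_, ⟨e' ≪≫ e⟩⟩

end Groth.Agent.ConstFam21
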