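import Groth.Agent.ConstFam21.Right

/-!
# Covers of a product with a proper factor are dominated by products of covers
-/

set_option autoImplicit false
set_option backward.isDefEq.respectTransparency false

universe u

open CategoryTheory CategoryTheory.Limits AlgebraicGeometry GrothLib.FEt21

namespace Groth.Agent.ConstFam21

variable {k : Type u} [Field k] [IsAlgClosed k] {X Y : Scheme.{u}}

/-- A family of covers becomes constant after a cover of the proper factor. -/
theorem exists_split_cover (pX : X ⟶ Spec (CommRingCat.of k)) (pY : Y ⟶ Spec (CommRingCat.of k))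
    [IsProper pY] [IsLocallyNoetherian X] [ConnectedSpace X] [ConnectedSpace Y] (Z : FEt.Cat (pullback pX pY)) :
    ∃ (Y₁ : FEt.Cat Y) (T : FEt.Cat X), Surjective Y₁.hom ∧
      Nonempty ((FEt.restrict (pullback.fst pX (Y₁.hom ≫ pY))).obj T ≅
        (FEt.restrict (pullback.map pX (Y₁.hom ≫ pY) pX pY (𝟙 _) Y₁.hom (𝟙 _) (by simp) (by simp))).obj Z) := by
  obtain ⟨x₀⟩ := (inferInstance : ConnectedSpace X).toNonempty
  let K := AlgebraicClosure (X.residueField x₀)
  let a : Spec (CommRingCat.of K) ⟶ X := geomPt X x₀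
  obtain ⟨χ, hχ⟩ := Spec.map_surjective (a ≫ pX)
  letI : Algebra k K := χ.hom.toAlgebra
  let g : Spec (CommRingCat.of K) ⟶ Spec (CommRingCat.of k) := Spec.map (CommRingCat.ofHom (algebraMap k K))
  have hg : g = a ≫ pX := hχ
  -- the cover on the geometric slice comes from `Y`
  let c₀ : pullback pY g ⟶ pullback pX pY :=
    pullback.lift (pullback.snd _ _ ≫ a) (pullback.fst _ _) (by rw [Category.assoc, ← hg, pullback.condition])
  obtain ⟨V₀, ⟨e⟩⟩ := exists_descent pY ((FEt.restrict c₀).obj Z)
  haveI : IsLocallyNoetherian Y := LocallyOfFiniteType.isLocallyNoetherian pY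
  obtain ⟨y₀⟩ := (inferInstance : ConnectedSpace Y).toNonempty
  haveI : JacobsonSpace ↥(Spec (CommRingCat.of k)) := inferInstanceAs (JacobsonSpace (PrimeSpectrum k))
  haveI : JacobsonSpace ↥Y := LocallyOfFiniteType.jacobsonSpace pY
  obtain ⟨y₁₀, -, hy₁₀⟩ := nonempty_inter_closedPoints (Z := (Set.univ : Set Y)) ⟨y₀, trivial⟩
    isOpen_univ.isLocallyClosed
  let y₁ : Spec (CommRingCat.of k) ⟶ Y := pointOfClosedPoint pY y₁₀ hy₁₀
  -- split the cover by a connected cover of `Y`
  let V₁ := V₀
  let v : V₁.left ⟶ Y := V₁.hom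
  haveI : IsFinite v := V₁.prop.1
  haveI : Etale v := V₁.prop.2
  let d := v.finrank (y₁ default)
  obtain ⟨Y'', ψ, hψ, hψd, sec, hsec, hdis⟩ :=
    exists_splitting d v V₁.prop fun x => finrank_const V₁ x (y₁ default)
  haveI := hψ.1
  haveI := hψ.2
  let YC : FEt.Cat Y := MorphismProperty.Over.mk ⊤ ψ hψ
  obtain ⟨t, ht⟩ : ∃ t : Spec (CommRingCat.of k) ⟶ Y'', t ≫ ψ = y₁ := by
    have : 0 < Nat.card (FEt.fiberObj y₁ YC) := by
      rw [card_fiber y₁ YC]
      exact (hψd (y₁ default)).symm ▸ d.factorial_pos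
    obtain ⟨t⟩ := (Nat.card_pos_iff.1 this).1
    exact ⟨t.1, t.2⟩
  haveI : IsLocallyNoetherian Y'' := LocallyOfFiniteType.isLocallyNoetherian ψ
  let O : Y''.Opens := ⟨connectedComponent (t default), (isLocNoeth Y'').isOpen_connectedComponent _⟩
  haveI : ConnectedSpace (O : Scheme.{u}) := isConnected_iff_connectedSpace.mp isConnected_connectedComponent
  let ψ' := O.ι ≫ ψ
  have hψ' : FEt.prop ψ' := FEt.prop.comp_mem _ _ (prop_ι O isClosed_connectedComponent) hψ
  haveI := hψ'.1
  haveI := hψ'.2
  let OC : FEt.Cat Y := MorphismProperty.Over.mk ⊤ ψ' hψ'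
  let o : (O : Scheme.{u}) := ⟨t default, mem_connectedComponent⟩
  -- reduce the splitting cover
  let J := Scheme.IdealSheafData.vanishingIdeal (X := (O : Scheme.{u})) ⊤
  let i : J.subscheme ⟶ O := J.subschemeι
  haveI : IsReduced J.subscheme := GrothLib.RedSub.isReduced_subscheme_vanishingIdeal _
  haveI : Surjective i := ⟨fun x => by
    show x ∈ Set.range J.subschemeι
    rw [Scheme.IdealSheafData.range_subschemeι]
    simp [J]⟩
  haveI : ConnectedSpace J.subscheme := by
    let h := (Topology.IsEmbedding.toHomeomorphOfSurjective i.isClosedEmbedding.toIsEmbedding i.surjective)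
    exact h.symm.surjective.connectedSpace h.symm.continuous
  let pY' : J.subscheme ⟶ Spec (CommRingCat.of k) := i ≫ ψ' ≫ pY
  haveI : IsProper pY' := inferInstanceAs (IsProper (i ≫ ψ' ≫ pY))
  haveI : Flat pY' := GrothLib.DiagGrp.flat_of_field _
  haveI : GeometricallyReduced pY' := GrothLib.UnitProd.geometricallyReduced_of_isReduced pY'
  haveI : HenselianLocalRing k := inferInstance
  haveI : IsSepClosed (IsLocalRing.ResidueField k) :=
    haveI : IsAlgClosed (IsLocalRing.ResidueField k) :=
      IsAlgClosed.of_ringEquiv k _ (RingEquiv.ofBijective (IsLocalRing.residue k)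
        ⟨(IsLocalRing.residue k).injective, IsLocalRing.residue_surjective⟩)
    inferInstance
  haveI : LocallyOfFinitePresentation pY' := inferInstance
  let f := pullback.fst pX pY'
  let m : pullback pX pY' ⟶ pullback pX pY :=
    pullback.map _ _ _ _ (𝟙 _) (i ≫ ψ') (𝟙 _) (by simp) (by simp [pY'])
  let Zp := (FEt.restrict m).obj Z
  -- the slice over the geometric point
  let q : pullback f a ⟶ J.subscheme := pullback.fst f a ≫ pullback.snd pX pY'
  have hq : q ≫ pY' = pullback.snd f a ≫ g := by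
    rw [hg, Category.assoc, ← pullback.condition, pullback.condition_assoc]
  haveI : ConnectedSpace ↥(pullback pY' g) := GeomFibre21.connectedSpace_pullback pY' g
  haveI : ConnectedSpace ↥(pullback f a) := by
    let r : pullback pY' g ⟶ pullback f a :=
      pullback.lift (pullback.lift (pullback.snd _ _ ≫ a) (pullback.fst _ _)
        (by rw [Category.assoc, ← hg, pullback.condition])) (pullback.snd _ _) (by simp [f])
    let r' : pullback f a ⟶ pullback pY' g := pullback.lift q (pullback.snd f a) hq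
    have : r' ≫ r = 𝟙 _ := by
      apply pullback.hom_ext
      · apply pullback.hom_ext
        · simp only [r, r', Category.assoc, pullback.lift_fst, pullback.lift_snd_assoc, Category.id_comp]
          exact pullback.condition.symm
        · simp [r, r', q]
      · simp [r, r']
    have hs : Function.Surjective r := fun x => ⟨r' x, by rw [← Scheme.Hom.comp_apply, this]; rfl⟩
    exact hs.connectedSpace r.continuous
  let c : pullback f a ⟶ pullback pY g := pullback.lift (q ≫ i ≫ ψ') (pullback.snd f a) (by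
    simpa [pY'] using hq)
  have hc : c ≫ c₀ = pullback.fst f a ≫ m := by
    apply pullback.hom_ext
    · simp only [c, c₀, m, Category.assoc, pullback.lift_fst, pullback.lift_snd_assoc, Category.comp_id]
      exact pullback.condition.symm
    · simp [c, c₀, m, q]
  have hs : ∀ j, (O.ι ≫ sec j ≫ pullback.fst v ψ) ≫ v = ψ' := fun j => by
    simp only [Category.assoc, pullback.condition, reassoc_of% hsec j]; rfl
  let u : Fin d → (pullback f a ⟶ V₀.left) := fun j =>
    q ≫ i ≫ O.ι ≫ sec j ≫ pullback.fst v ψ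
  have hu : ∀ j, u j ≫ V₀.hom = c ≫ pullback.fst pY g := fun j => by
    have := hs j
    simp only [Category.assoc] at this
    simp only [u, c, Category.assoc, pullback.lift_fst]
    exact congrArg (q ≫ i ≫ ·) this
  let w : Fin d → (pullback f a ⟶ ((FEt.restrict c₀).obj Z).left) := fun j =>
    pullback.lift (u j) c (hu j) ≫ e.hom.left
  have hw : ∀ j, w j ≫ pullback.snd Z.hom c₀ = c := fun j => by
    rw [Category.assoc]
    exact (congrArg (pullback.lift (u j) c (hu j) ≫ ·) (Over.w e.hom.hom)).trans (pullback.lift_snd _ _ _)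
  let σ : Fin d → (pullback f a ⟶ Zp.left) := fun j =>
    pullback.lift (w j ≫ pullback.fst Z.hom c₀) (pullback.fst f a) (by
      rw [Category.assoc, pullback.condition, reassoc_of% hw j, hc])
  obtain ⟨T, ⟨eT⟩⟩ : (FEt.restrict f).essImage Zp := by
    refine mem_essImage_of_split f Zp a σ (fun j => pullback.lift_snd _ _ _) fun ξ hξ z => ?_
    let ww : Spec (CommRingCat.of K) ⟶ pullback f a := pullback.lift ξ (𝟙 _) (hξ.trans (Category.id_comp a).symm)
    let ev : Fin d → FEt.fiberObj ξ Zp := fun j =>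
      ⟨ww ≫ σ j, (Category.assoc _ _ _).trans ((congrArg (ww ≫ ·) (pullback.lift_snd _ _ _)).trans (pullback.lift_fst _ _ _))⟩
    have hinj : Function.Injective ev := fun j j' hjj => by
      have h1 : ww ≫ w j ≫ pullback.fst Z.hom c₀ = ww ≫ w j' ≫ pullback.fst Z.hom c₀ := by
        have := congrArg (fun x : FEt.fiberObj ξ Zp => x.1 ≫ pullback.fst Z.hom m) hjj
        simpa [ev, σ] using this
      have h2 : ww ≫ w j = ww ≫ w j' := pullback.hom_ext (by simpa using h1) (by
        rw [Category.assoc, Category.assoc]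
        exact (congrArg (ww ≫ ·) (hw j)).trans (congrArg (ww ≫ ·) (hw j')).symm)
      haveI : IsIso e.hom.left :=
        ⟨e.inv.left, congr(($(e.hom_inv_id)).left), congr(($(e.inv_hom_id)).left)⟩
      have h3 : ww ≫ pullback.lift (u j) c (hu j) = ww ≫ pullback.lift (u j') c (hu j') :=
        (cancel_mono e.hom.left).1 (by simpa [w] using h2)
      have h4 : ww ≫ u j = ww ≫ u j' := by simpa using congrArg (· ≫ pullback.fst _ _) h3
      have h6 : ww ≫ q ≫ i ≫ O.ι ≫ sec j = ww ≫ q ≫ i ≫ O.ι ≫ sec j' :=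
        pullback.hom_ext (by simpa [u] using h4) (by simp [hsec])
      by_contra hne
      refine Set.disjoint_left.1 (hdis j j' hne) ⟨(ww ≫ q ≫ i ≫ O.ι) default, rfl⟩ ⟨(ww ≫ q ≫ i ≫ O.ι) default, ?_⟩
      have h7 : (ww ≫ q ≫ i ≫ O.ι) ≫ sec j = (ww ≫ q ≫ i ≫ O.ι) ≫ sec j' := by
        simpa only [Category.assoc] using h6
      rw [← Scheme.Hom.comp_apply, ← Scheme.Hom.comp_apply, h7]
    have hcard : Nat.card (FEt.fiberObj ξ Zp) = Nat.card (Fin d) := by
      let ξc := ww ≫ c
      have e1 : ξc ≫ c₀ = ξ ≫ m := by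
        simp only [ξc, Category.assoc, hc]
        rw [← Category.assoc, pullback.lift_fst]
      let ξ₁ := ξ ≫ pullback.snd pX pY' ≫ i ≫ ψ'
      have e2 : ξc ≫ pullback.fst pY g = ξ₁ := by simp [ξc, c, q, ww, ξ₁]
      refine (Nat.card_congr (restrEquiv m ξ Z)).trans ?_
      rw [← e1]
      refine (Nat.card_congr (restrEquiv c₀ ξc Z)).symm.trans ?_
      refine (Nat.card_congr ((FEt.fiber ξc).mapIso e).toEquiv).symm.trans ?_
      refine (Nat.card_congr (restrEquiv (pullback.fst pY g) ξc V₀)).trans ?_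
      rw [e2]
      rw [card_fiber ξ₁ V₁, Nat.card_fin]
      exact finrank_const V₁ _ _
    obtain ⟨j, hj⟩ := (hinj.bijective_of_nat_card_le hcard.le).2 z
    exact ⟨j, congrArg Subtype.val hj⟩
  haveI : Surjective ψ' := ⟨fun x => by
    obtain ⟨z⟩ := nonempty_fiber (geomPt Y x) OC o
    obtain ⟨z', e'⟩ : ∃ z' : Spec (CommRingCat.of (AlgebraicClosure (Y.residueField x))) ⟶ O, z' ≫ ψ' = geomPt Y x :=
      ⟨z.1, z.2⟩
    refine ⟨z' default, ?_⟩
    rw [← Scheme.Hom.comp_apply, e', geomPt_default]⟩
  refine ⟨OC, T, ‹Surjective ψ'›, ?_⟩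
  let j : pullback pX pY' ⟶ pullback pX (ψ' ≫ pY) :=
    pullback.map _ _ _ _ (𝟙 _) i (𝟙 _) (by simp) (by simp [pY'])
  haveI : IsClosedImmersion j := MorphismProperty.pullbackMap (P := @IsClosedImmersion)
    (f' := pX) (g' := ψ' ≫ pY) inferInstance inferInstance (Category.id_comp pX).symm (by simp [pY'])
  haveI : Surjective j := MorphismProperty.pullbackMap (P := @Surjective)
    (f' := pX) (g' := ψ' ≫ pY) inferInstance inferInstance (Category.id_comp pX).symm (by simp [pY'])
  obtain ⟨_, _⟩ := Groth.Agent.S0283.result j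
  let n : pullback pX (ψ' ≫ pY) ⟶ pullback pX pY :=
    pullback.map pX (ψ' ≫ pY) pX pY (𝟙 _) ψ' (𝟙 _) (by simp) (by simp)
  show Nonempty ((FEt.restrict (pullback.fst pX (ψ' ≫ pY))).obj T ≅ (FEt.restrict n).obj Z)
  have h1 : j ≫ pullback.fst pX (ψ' ≫ pY) = f := by simp [j, f]
  have h2 : j ≫ n = m := by apply pullback.hom_ext <;> simp [j, n, m]
  exact ⟨(FEt.restrict j).preimageIso ((restrictCompIso j _ _ h1 T).symm ≪≫ eT ≪≫ restrictCompIso j n _ h2 Z)⟩

omit [IsAlgClosed k] in
/-- A cover which becomes constant is dominated by a product. -/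
theorem exists_surjective (pX : X ⟶ Spec (CommRingCat.of k)) (pY : Y ⟶ Spec (CommRingCat.of k))
    {X' T W : Scheme.{u}} (a : X' ⟶ X) [Surjective a] (b : T ⟶ Y) (w : W ⟶ pullback pX pY)
    (el : pullback b (pullback.fst pY (a ≫ pX)) ⟶ pullback (pullback.snd w (pullbackSymmetry pY pX).hom)
      (pullback.map pY (a ≫ pX) pY pX (𝟙 _) a (𝟙 _) (by simp) (by simp)))
    (hel : el ≫ pullback.snd _ _ = pullback.snd _ _) [Surjective el] :
    ∃ φ : pullback (a ≫ pX) (b ≫ pY) ⟶ W,
      φ ≫ w = pullback.map (a ≫ pX) (b ≫ pY) pX pY a b (𝟙 _)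
        (Category.comp_id _) (Category.comp_id _) ∧ Surjective φ := by
  let σ : pullback pY pX ⟶ pullback pX pY := (pullbackSymmetry pY pX).hom
  let m : pullback pY (a ≫ pX) ⟶ pullback pY pX :=
    pullback.map _ _ _ _ (𝟙 _) a (𝟙 _) (by simp) (by simp)
  let r : pullback (a ≫ pX) (b ≫ pY) ⟶ pullback b (pullback.fst pY (a ≫ pX)) :=
    pullback.lift (pullback.snd _ _) (pullback.lift (pullback.snd _ _ ≫ b) (pullback.fst _ _)
      (by rw [Category.assoc]; exact pullback.condition.symm)) (by simp)
  let r' : pullback b (pullback.fst pY (a ≫ pX)) ⟶ pullback (a ≫ pX) (b ≫ pY) :=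
    pullback.lift (pullback.snd _ _ ≫ pullback.snd _ _) (pullback.fst _ _) (by
      rw [Category.assoc, ← pullback.condition (f := pY), ← Category.assoc, ← pullback.condition (f := b),
        Category.assoc])
  have hr : r' ≫ r = 𝟙 _ := by
    apply pullback.hom_ext
    · simp [r, r']
    · apply pullback.hom_ext
      · simp [r, r', pullback.condition]
      · simp [r, r']
  haveI : Surjective r := ⟨fun x => ⟨r' x, by rw [← Scheme.Hom.comp_apply, hr]; rfl⟩⟩
  haveI : Surjective m := MorphismProperty.pullbackMap (P := @Surjective)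
    (f' := pY) (g' := pX) inferInstance inferInstance (Category.id_comp pY).symm rfl
  refine ⟨r ≫ el ≫ pullback.fst _ _ ≫ pullback.fst w σ, ?_, inferInstance⟩
  simp only [Category.assoc, pullback.condition (f := w)]
  rw [pullback.condition_assoc (f := pullback.snd w σ), reassoc_of% hel]
  apply pullback.hom_ext <;> simp [r, m, σ]

end Groth.Agent.ConstFam21
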