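import Groth.Agent.ConstFam21.Main
import Groth.Agent.S0283
import Groth.Agent.Lib.UnitProd.Split
import Groth.Agent.Lib.RedSub.Basic

/-!
# Families of covers of a scheme proper over an algebraically closed field
-/

set_option autoImplicit false
set_option backward.isDefEq.respectTransparency false

universe u

open CategoryTheory CategoryTheory.Limits AlgebraicGeometry GrothLib.FEt21

namespace Groth.Agent.ConstFam21

/-- A scheme over a field has a rigid base. -/
theorem eq_id_of_comp {k : Type u} [Field k] {X : Scheme.{u}} [Nonempty X] (p : X ⟶ Spec (CommRingCat.of k))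
    (σ : Spec (CommRingCat.of k) ⟶ Spec (CommRingCat.of k)) (h : p ≫ σ = p) : σ = 𝟙 _ := by
  obtain ⟨x⟩ := ‹Nonempty X›
  obtain ⟨φ, hφ⟩ := Spec.map_surjective (X.fromSpecResidueField x ≫ p)
  obtain ⟨ψ, rfl⟩ := Spec.map_surjective σ
  have h2 : ψ ≫ φ = φ := Spec.map_injective (by rw [Spec.map_comp, hφ, Category.assoc, h])
  rw [← Spec.map_id]
  congr 1
  ext a
  exact φ.hom.injective (congr($h2 a))

/-- Two covers of the empty scheme are isomorphic. -/
theorem nonempty_iso_of_isEmpty {X : Scheme.{u}} [IsEmpty X] (A B : FEt.Cat X) : Nonempty (A ≅ B) := by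
  let a : A.left ⟶ X := A.hom
  let b : B.left ⟶ X := B.hom
  haveI : IsEmpty A.left := Function.isEmpty a
  haveI : IsEmpty B.left := Function.isEmpty b
  let e : A.left ≅ B.left := isInitialOfIsEmpty.uniqueUpToIso isInitialOfIsEmpty
  exact ⟨MorphismProperty.Over.isoMk e (isInitialOfIsEmpty.hom_ext _ _)⟩

variable {k : Type u} [Field k] [IsAlgClosed k] {X Y : Scheme.{u}}

/-- A cover of a product with a proper factor is, on every geometric slice, the base change of a
rational slice. -/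
theorem nonempty_iso_geom (pX : X ⟶ Spec (CommRingCat.of k)) (pY : Y ⟶ Spec (CommRingCat.of k))
    [IsProper pX] [IsLocallyNoetherian Y] [ConnectedSpace Y] (Z : FEt.Cat (pullback pX pY))
    (y : Spec (CommRingCat.of k) ⟶ Y) (sy : y ≫ pY = 𝟙 _) (hy : 𝟙 X ≫ pX = (pX ≫ y) ≫ pY)
    {K : Type u} [Field K] [IsAlgClosed K] (v : Spec (CommRingCat.of K) ⟶ Y)
    (g : Spec (CommRingCat.of K) ⟶ Spec (CommRingCat.of k)) (hg : v ≫ pY = g) :
    Nonempty ((FEt.restrict (pullback.fst pX g)).obj
        ((FEt.restrict (pullback.lift (𝟙 X) (pX ≫ y) hy)).obj Z) ≅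
      (FEt.restrict (pullback.lift (pullback.fst pX g) (pullback.snd pX g ≫ v)
        (by rw [Category.assoc, hg, pullback.condition]))).obj Z) := by
  let J := Scheme.IdealSheafData.vanishingIdeal (X := X) ⊤
  let i : J.subscheme ⟶ X := J.subschemeι
  haveI : IsReduced J.subscheme := GrothLib.RedSub.isReduced_subscheme_vanishingIdeal _
  haveI : Surjective i := ⟨fun x => by
    show x ∈ Set.range J.subschemeι
    rw [Scheme.IdealSheafData.range_subschemeι]
    simp [J]⟩
  haveI : GeometricallyReduced (i ≫ pX) := GrothLib.UnitProd.geometricallyReduced_of_isReduced (i ≫ pX)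
  haveI : Flat (i ≫ pX) := GrothLib.DiagGrp.flat_of_field _
  let f : pullback (i ≫ pX) pY ⟶ Y := pullback.snd _ _
  let m : pullback (i ≫ pX) pY ⟶ pullback pX pY :=
    pullback.map _ _ _ _ i (𝟙 _) (𝟙 _) (by simp) (by simp)
  let q : pullback (i ≫ pX) pY ⟶ X := pullback.fst _ _ ≫ i
  let Z₁ := (FEt.restrict q).obj ((FEt.restrict (pullback.lift (𝟙 X) (pX ≫ y) hy)).obj Z)
  let Z₂ := (FEt.restrict m).obj Z
  have hfib : ∀ (v : Spec (CommRingCat.of k) ⟶ Y) (hv : v ≫ pY = 𝟙 _) (hv' : 𝟙 X ≫ pX = (pX ≫ v) ≫ pY),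
      (pullback.fst f v ≫ q) ≫ pullback.lift (𝟙 X) (pX ≫ v) hv' = pullback.fst f v ≫ m := by
    intro v hv hv'
    apply pullback.hom_ext
    · simp [q, m]
    · simp only [q, m, Category.assoc, pullback.lift_snd, pullback.lift_snd_assoc, Category.comp_id]
      show pullback.fst f v ≫ pullback.fst (i ≫ pX) pY ≫ i ≫ pX ≫ v = pullback.fst f v ≫ f
      have e : pullback.fst (i ≫ pX) pY ≫ i ≫ pX = f ≫ pY := pullback.condition
      rw [← Category.assoc i, ← Category.assoc (pullback.fst (i ≫ pX) pY), e, Category.assoc,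
        pullback.condition (f := f) (g := v), reassoc_of% pullback.condition (f := f) (g := v),
        reassoc_of% hv]
  let φ : (FEt.restrict (pullback.fst f y)).obj Z₁ ≅ (FEt.restrict (pullback.fst f y)).obj Z₂ :=
    (restrictCompIso _ q _ rfl _).symm ≪≫ (restrictCompIso _ _ _ rfl Z).symm ≪≫
      restrictCompIso (pullback.fst f y) m _ (hfib y sy hy).symm Z
  obtain ⟨e⟩ := nonempty_iso_fibre f Z₁ Z₂ y φ v
  let n : pullback (i ≫ pX) g ⟶ pullback f v :=
    pullback.lift (pullback.lift (pullback.fst _ _) (pullback.snd _ _ ≫ v)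
      (by rw [Category.assoc, hg, pullback.condition])) (pullback.snd _ _) (by simp [f])
  let iK : pullback (i ≫ pX) g ⟶ pullback pX g :=
    pullback.map _ _ _ _ i (𝟙 _) (𝟙 _) (by simp) (by simp)
  haveI : IsClosedImmersion iK := MorphismProperty.pullbackMap (P := @IsClosedImmersion)
    (f' := pX) (g' := g) inferInstance inferInstance rfl (Category.id_comp g).symm
  haveI : Surjective iK := MorphismProperty.pullbackMap (P := @Surjective)
    (f' := pX) (g' := g) inferInstance inferInstance rfl (Category.id_comp g).symm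
  have hn : (n ≫ pullback.fst f v) ≫ q = iK ≫ pullback.fst pX g := by simp [n, q, iK]
  have hn' : (n ≫ pullback.fst f v) ≫ m = iK ≫ pullback.lift (pullback.fst pX g) (pullback.snd pX g ≫ v)
      (by rw [Category.assoc, hg, pullback.condition]) := by
    apply pullback.hom_ext <;> simp [n, m, iK]
  obtain ⟨hF, hF'⟩ := Groth.Agent.S0283.result iK
  refine ⟨(FEt.restrict iK).preimageIso ((restrictCompIso iK _ _ rfl _).symm ≪≫ restrictCompIso _ q _ hn _ ≪≫
    ?_ ≪≫ (restrictCompIso _ m _ hn' Z).symm ≪≫ restrictCompIso iK _ _ rfl Z)⟩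
  exact restrictCompIso n (pullback.fst f v) _ rfl Z₁ ≪≫ (FEt.restrict n).mapIso e ≪≫
    (restrictCompIso n (pullback.fst f v) _ rfl Z₂).symm

/-- The cover of the product restricted to two horizontal slices, `X` proper. -/
theorem nonempty_iso_of_proper (pX : X ⟶ Spec (CommRingCat.of k)) (pY : Y ⟶ Spec (CommRingCat.of k))
    [IsProper pX] [IsLocallyNoetherian Y] [ConnectedSpace Y] (Z : FEt.Cat (pullback pX pY))
    (y y' : Spec (CommRingCat.of k) ⟶ Y) (hy : 𝟙 X ≫ pX = (pX ≫ y) ≫ pY)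
    (hy' : 𝟙 X ≫ pX = (pX ≫ y') ≫ pY) :
    Nonempty ((FEt.restrict (pullback.lift (𝟙 X) (pX ≫ y) hy)).obj Z ≅
      (FEt.restrict (pullback.lift (𝟙 X) (pX ≫ y') hy')).obj Z) := by
  cases isEmpty_or_nonempty X
  · exact nonempty_iso_of_isEmpty _ _
  have sy : y ≫ pY = 𝟙 _ := eq_id_of_comp pX _ (by rw [← Category.assoc, ← hy, Category.id_comp])
  have sy' : y' ≫ pY = 𝟙 _ := eq_id_of_comp pX _ (by rw [← Category.assoc, ← hy', Category.id_comp])
  obtain ⟨e⟩ := nonempty_iso_geom pX pY Z y sy hy y' (𝟙 _) sy'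
  let r : X ⟶ pullback pX (𝟙 _) := pullback.lift (𝟙 X) pX (by simp)
  have h1 : r ≫ pullback.fst pX (𝟙 _) = 𝟙 X := pullback.lift_fst _ _ _
  refine ⟨(restrictCompIso (𝟙 X) _ _ (Category.id_comp _) Z) ≪≫
    (restrictCompIso r _ _ h1 _) ≪≫ (FEt.restrict r).mapIso e ≪≫
    (restrictCompIso r _ _ (by apply pullback.hom_ext <;> simp [r]) Z).symm⟩

end Groth.Agent.ConstFam21
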