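import Groth.Agent.ConstFam21.Main

/-!
# Covers split on one geometric fibre come from the base
-/

set_option autoImplicit false
set_option backward.isDefEq.respectTransparency false

universe u

open CategoryTheory CategoryTheory.Limits AlgebraicGeometry GrothLib.FEt21

namespace Groth.Agent.ConstFam21

variable {P X : Scheme.{u}} (f : P ⟶ X) [IsProper f] [Flat f] [LocallyOfFinitePresentation f]
  [GeometricallyReduced f] [IsLocallyNoetherian X] [PreconnectedSpace X]

/-- A cover split on one connected geometric fibre comes from the base. -/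
theorem mem_essImage_of_split (Z : FEt.Cat P) {Ω : Type u} [Field Ω] [IsAlgClosed Ω]
    (a : Spec (CommRingCat.of Ω) ⟶ X) [ConnectedSpace ↥(pullback f a)] {n : ℕ}
    (sec : Fin n → (pullback f a ⟶ Z.left)) (hsec : ∀ i, sec i ≫ Z.hom = pullback.fst f a)
    (hall : ∀ (ξ : Spec (CommRingCat.of Ω) ⟶ P) (hξ : ξ ≫ f = a) (z : FEt.fiberObj ξ Z),
      ∃ i, pullback.lift ξ (𝟙 _) (hξ.trans (Category.id_comp a).symm) ≫ sec i = z.1) :
    (FEt.restrict f).essImage Z := by
  let b : Z.left ⟶ P := Z.hom
  haveI : IsFinite b := Z.prop.1
  haveI : Etale b := Z.prop.2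
  let g := b ≫ f
  haveI : GeometricallyReduced g := SectDescent21.geometricallyReduced_comp_etale f b
  haveI := SteinEtale21.finite_fromNormalization g
  haveI := SteinEtale21.etale_fromNormalization g
  let T : FEt.Cat X := MorphismProperty.Over.mk ⊤ g.fromNormalization (prop_of g.fromNormalization)
  let φ : Z ⟶ (FEt.restrict f).obj T := MorphismProperty.Over.homMk
    (pullback.lift g.toNormalization b g.toNormalization_fromNormalization) (pullback.lift_snd _ _ _)
  haveI : Surjective g.toNormalization := ⟨GrothLib.Stein.surjective_toNormalization g⟩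
  haveI : PreconnectedSpace ↥X := inferInstance
  haveI := isIso_of_bijective_fibre f φ a fun ξ hξ => by
    let w : Spec (CommRingCat.of Ω) ⟶ pullback f a := pullback.lift ξ (𝟙 _) (hξ.trans (Category.id_comp a).symm)
    have hval : ∀ z : FEt.fiberObj ξ Z,
        ((((FEt.fiber ξ).map φ) z : FEt.fiberObj ξ ((FEt.restrict f).obj T))).1 ≫ pullback.fst _ _ =
          z.1 ≫ g.toNormalization := fun z =>
      (Category.assoc _ _ _).trans (congrArg (z.1 ≫ ·) (pullback.lift_fst _ _ _))
    constructor
    · intro z z' hzz'
      have e : z.1 ≫ g.toNormalization = z'.1 ≫ g.toNormalization :=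
        (hval z).symm.trans ((congrArg (fun c : FEt.fiberObj ξ ((FEt.restrict f).obj T) =>
          c.1 ≫ pullback.fst _ _) hzz').trans (hval z'))
      obtain ⟨i, hi⟩ := hall ξ hξ z
      let μ : pullback g a ⟶ pullback f a := pullback.map g a f a b (𝟙 _) (𝟙 _) (Category.comp_id _) (by simp)
      have hμ : FEt.prop μ := MorphismProperty.pullbackMap (P := FEt.prop)
        Z.prop (FEt.prop.id_mem _) rfl (Category.id_comp a).symm
      haveI := hμ.1
      haveI := hμ.2
      have hsb : sec i ≫ b = pullback.fst f a := hsec i
      let γ : pullback f a ⟶ pullback g a := pullback.lift (sec i) (pullback.snd f a) (by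
        rw [← pullback.condition, ← hsb, Category.assoc])
      have hγ : γ ≫ μ = 𝟙 _ := by apply pullback.hom_ext <;> simp [γ, μ, hsb]
      have hb : ∀ v : FEt.fiberObj ξ Z, v.1 ≫ g = a := fun v => by
        rw [← Category.assoc]; exact (congrArg (· ≫ f) v.2).trans hξ
      have hwγ : w ≫ γ = pullback.lift z.1 (𝟙 _) (by simp [hb z]) := by
        apply pullback.hom_ext
        · simp [γ, w, hi]
        · simp [γ, w]
      have hmem : pullback.lift (f := g) (g := a) z.1 (𝟙 _) (by simp [hb z]) default ∈ Set.range γ :=
        ⟨w default, by rw [← Scheme.Hom.comp_apply, hwγ]⟩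
      have hmem' := (clopen_iff g a (GrothLib.EtBasicB.isClopen_range_section μ γ hγ) z.1 z'.1
        (hb z) (hb z') e).1 hmem
      haveI := GrothLib.EtBasicB.isOpenImmersion_section μ γ hγ
      obtain ⟨l, hl⟩ : ∃ l, l ≫ γ = pullback.lift (f := g) (g := a) z'.1 (𝟙 _) (by simp [hb z']) :=
        ⟨_, IsOpenImmersion.lift_fac γ _ (range_point_subset _ hmem')⟩
      have hlw : l = w := by
        have := congrArg (· ≫ μ) hl
        simp only [Category.assoc, hγ, Category.comp_id] at this
        rw [this]
        apply pullback.hom_ext
        · simpa [μ, w] using z'.2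
        · simp [μ, w]
      subst hlw
      have := congrArg (· ≫ pullback.fst g a) hl
      simp only [γ, Category.assoc, pullback.lift_fst] at this
      exact Subtype.ext (hi.symm.trans this)
    · intro c
      let t := c.1 ≫ pullback.fst T.hom f
      have ht : t ≫ g.fromNormalization = a := by
        show (c.1 ≫ pullback.fst T.hom f) ≫ T.hom = a
        rw [Category.assoc, pullback.condition]
        exact (Category.assoc _ _ _).symm.trans ((congrArg (· ≫ f) c.2).trans hξ)
      haveI : JacobsonSpace ↥(Spec (CommRingCat.of Ω)) := inferInstanceAs (JacobsonSpace (PrimeSpectrum Ω))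
      haveI : LocallyOfFiniteType g.toNormalization := by
        haveI : LocallyOfFiniteType (g.toNormalization ≫ g.fromNormalization) := by
          rw [g.toNormalization_fromNormalization]; infer_instance
        exact locallyOfFiniteType_of_comp _ g.fromNormalization
      haveI : JacobsonSpace ↥(pullback g.toNormalization t) :=
        LocallyOfFiniteType.jacobsonSpace (pullback.snd g.toNormalization t)
      obtain ⟨z₀, hz₀⟩ := g.toNormalization.surjective (t default)
      obtain ⟨p, -, -⟩ := Scheme.Pullback.exists_preimage_pullback (f := g.toNormalization) (g := t) z₀ default hz₀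
      obtain ⟨p', -, hp'⟩ := nonempty_inter_closedPoints (Z := (Set.univ : Set ↥(pullback g.toNormalization t)))
        ⟨p, trivial⟩ isOpen_univ.isLocallyClosed
      let r := pointOfClosedPoint (pullback.snd g.toNormalization t) p' hp'
      let z := r ≫ pullback.fst g.toNormalization t
      have hzq : z ≫ g.toNormalization = t := by
        simp only [z, Category.assoc, pullback.condition]
        rw [← Category.assoc, pointOfClosedPoint_comp, Category.id_comp]
      have hzg : (z ≫ b) ≫ f = a := by
        rw [Category.assoc]
        show z ≫ g = a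
        rw [← g.toNormalization_fromNormalization, ← Category.assoc, hzq, ht]
      obtain ⟨i, hi⟩ := hall (z ≫ b) hzg ⟨z, rfl⟩
      have hrig : sec i ≫ g.toNormalization = pullback.snd f a ≫ t := by
        refine Groth.Agent.S8190.result g.fromNormalization (pullback.snd f a ≫ a) _ _ ?_ ?_ Ω
          (pullback.lift (z ≫ b) (𝟙 _) (hzg.trans (Category.id_comp a).symm)) ?_
        · rw [Category.assoc, g.toNormalization_fromNormalization]
          show sec i ≫ b ≫ f = _
          rw [← Category.assoc, show sec i ≫ b = pullback.fst f a from hsec i, pullback.condition]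
        · rw [Category.assoc, ht]
        · rw [← Category.assoc, ← Category.assoc, hi, pullback.lift_snd, Category.id_comp, hzq]
      refine ⟨⟨w ≫ sec i, (Category.assoc _ _ _).trans ((congrArg (w ≫ ·) (hsec i)).trans (pullback.lift_fst _ _ _))⟩,
        Subtype.ext (pullback.hom_ext ((hval _).trans ?_) ?_)⟩
      · rw [Category.assoc, hrig, pullback.lift_snd_assoc, Category.id_comp]
      · exact (((FEt.fiber ξ).map φ) _).2.trans c.2.symm
  exact ⟨T, ⟨(asIso φ).symm⟩⟩

end Groth.Agent.ConstFam21
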