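import Groth.Agent.ConstFam21.Invariance
import Groth.Agent.ConstFam21.Split
import Groth.Agent.ConstFam21.Glue

/-!
# Families of covers parametrised by a scheme proper over an algebraically closed field
-/

set_option autoImplicit false
set_option backward.isDefEq.respectTransparency false

universe u

open CategoryTheory CategoryTheory.Limits AlgebraicGeometry GrothLib.FEt21

namespace Groth.Agent.ConstFam21

variable {k : Type u} [Field k] [IsAlgClosed k] {X Y : Scheme.{u}}

/-- Over a connected base, a family of covers parametrised by a connected proper scheme is constant on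
rational slices. -/
theorem nonempty_iso_of_connected (pX : X ⟶ Spec (CommRingCat.of k)) (pY : Y ⟶ Spec (CommRingCat.of k))
    [IsProper pY] [IsLocallyNoetherian X] [ConnectedSpace X] [ConnectedSpace Y] (Z : FEt.Cat (pullback pX pY))
    (y y' : Spec (CommRingCat.of k) ⟶ Y) (sy : y ≫ pY = 𝟙 _) (sy' : y' ≫ pY = 𝟙 _)
    (hy : 𝟙 X ≫ pX = (pX ≫ y) ≫ pY) (hy' : 𝟙 X ≫ pX = (pX ≫ y') ≫ pY) :
    Nonempty ((FEt.restrict (pullback.lift (𝟙 X) (pX ≫ y) hy)).obj Z ≅
      (FEt.restrict (pullback.lift (𝟙 X) (pX ≫ y') hy')).obj Z) := by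
  obtain ⟨x₀⟩ := (inferInstance : ConnectedSpace X).toNonempty
  let K := AlgebraicClosure (X.residueField x₀)
  let a : Spec (CommRingCat.of K) ⟶ X := geomPt X x₀
  obtain ⟨χ, hχ⟩ := Spec.map_surjective (a ≫ pX)
  letI : Algebra k K := χ.hom.toAlgebra
  let g : Spec (CommRingCat.of K) ⟶ Spec (CommRingCat.of k) := Spec.map (CommRingCat.ofHom (algebraMap k K))
  have hg : g = a ≫ pX := hχ
  -- the cover on the geometric slice comes from `Y`
  let c₀ : pullback pY g ⟶ pullback pX pY :=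
    pullback.lift (pullback.snd _ _ ≫ a) (pullback.fst _ _) (by rw [Category.assoc, ← hg, pullback.condition])
  obtain ⟨V₀, ⟨e⟩⟩ := exists_descent pY ((FEt.restrict c₀).obj Z)
  -- reduce `Y`
  let J := Scheme.IdealSheafData.vanishingIdeal (X := Y) ⊤
  let i : J.subscheme ⟶ Y := J.subschemeι
  haveI : IsReduced J.subscheme := GrothLib.RedSub.isReduced_subscheme_vanishingIdeal _
  haveI : Surjective i := ⟨fun x => by
    show x ∈ Set.range J.subschemeι
    rw [Scheme.IdealSheafData.range_subschemeι]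
    simp [J]⟩
  haveI : ConnectedSpace J.subscheme := by
    let h := (Topology.IsEmbedding.toHomeomorphOfSurjective i.isClosedEmbedding.toIsEmbedding i.surjective)
    exact h.symm.surjective.connectedSpace h.symm.continuous
  obtain ⟨y₁, hy₁⟩ := GrothLib.RedSub.exists_lift y i (fun _ _ => by rw [Set.range_eq_univ.2 i.surjective]; trivial)
  obtain ⟨y₁', hy₁'⟩ := GrothLib.RedSub.exists_lift y' i (fun _ _ => by rw [Set.range_eq_univ.2 i.surjective]; trivial)
  haveI : IsLocallyNoetherian J.subscheme := LocallyOfFiniteType.isLocallyNoetherian (i ≫ pY)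
  -- split the cover by a connected cover of `Y`
  let V₁ := (FEt.restrict i).obj V₀
  let v : V₁.left ⟶ J.subscheme := V₁.hom
  haveI : IsFinite v := V₁.prop.1
  haveI : Etale v := V₁.prop.2
  let d := v.finrank (y₁ default)
  obtain ⟨Y'', ψ, hψ, hψd, sec, hsec, hdis⟩ :=
    exists_splitting d v V₁.prop fun x => finrank_const V₁ x (y₁ default)
  haveI := hψ.1
  haveI := hψ.2
  let YC : FEt.Cat J.subscheme := MorphismProperty.Over.mk ⊤ ψ hψ
  obtain ⟨t, ht⟩ : ∃ t : Spec (CommRingCat.of k) ⟶ Y'', t ≫ ψ = y₁ := by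
    have : 0 < Nat.card (FEt.fiberObj y₁ YC) := by
      rw [card_fiber y₁ YC]
      exact (hψd (y₁ default)).symm ▸ d.factorial_pos
    obtain ⟨t⟩ := (Nat.card_pos_iff.1 this).1
    exact ⟨t.1, t.2⟩
  haveI : IsLocallyNoetherian Y'' := LocallyOfFiniteType.isLocallyNoetherian ψ
  let O : Y''.Opens := ⟨connectedComponent (t default), (isLocNoeth Y'').isOpen_connectedComponent _⟩
  haveI : ConnectedSpace (O : Scheme.{u}) := isConnected_iff_connectedSpace.mp isConnected_connectedComponent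
  let ψ' := O.ι ≫ ψ
  have hψ' : FEt.prop ψ' := FEt.prop.comp_mem _ _ (prop_ι O isClosed_connectedComponent) hψ
  haveI := hψ'.1
  haveI := hψ'.2
  let OC : FEt.Cat J.subscheme := MorphismProperty.Over.mk ⊤ ψ' hψ'
  let o : (O : Scheme.{u}) := ⟨t default, mem_connectedComponent⟩
  obtain ⟨t₁⟩ := nonempty_fiber y₁ OC o
  obtain ⟨t₁'⟩ := nonempty_fiber y₁' OC o
  haveI : IsReduced (O : Scheme.{u}) := GrothLib.Unibranch.isReduced_of_etale ψ'
  let pY' : (O : Scheme.{u}) ⟶ Spec (CommRingCat.of k) := ψ' ≫ i ≫ pY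
  haveI : IsProper pY' := inferInstanceAs (IsProper (ψ' ≫ i ≫ pY))
  haveI : Flat pY' := GrothLib.DiagGrp.flat_of_field _
  haveI : GeometricallyReduced pY' := GrothLib.UnitProd.geometricallyReduced_of_isReduced pY'
  haveI : HenselianLocalRing k := inferInstance
  haveI : IsSepClosed (IsLocalRing.ResidueField k) :=
    haveI : IsAlgClosed (IsLocalRing.ResidueField k) :=
      IsAlgClosed.of_ringEquiv k _ (RingEquiv.ofBijective (IsLocalRing.residue k)
        ⟨(IsLocalRing.residue k).injective, IsLocalRing.residue_surjective⟩)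
    inferInstance
  haveI : LocallyOfFinitePresentation pY' := inferInstance
  let f := pullback.fst pX pY'
  let m : pullback pX pY' ⟶ pullback pX pY :=
    pullback.map _ _ _ _ (𝟙 _) (ψ' ≫ i) (𝟙 _) (by simp) (by simp [pY'])
  let Zp := (FEt.restrict m).obj Z
  -- the slice over the geometric point
  let q : pullback f a ⟶ (O : Scheme.{u}) := pullback.fst f a ≫ pullback.snd pX pY'
  have hq : q ≫ pY' = pullback.snd f a ≫ g := by
    rw [hg, Category.assoc, ← pullback.condition, pullback.condition_assoc]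
  haveI : ConnectedSpace ↥(pullback pY' g) := GeomFibre21.connectedSpace_pullback pY' g
  haveI : ConnectedSpace ↥(pullback f a) := by
    let r : pullback pY' g ⟶ pullback f a :=
      pullback.lift (pullback.lift (pullback.snd _ _ ≫ a) (pullback.fst _ _)
        (by rw [Category.assoc, ← hg, pullback.condition])) (pullback.snd _ _) (by simp [f])
    let r' : pullback f a ⟶ pullback pY' g := pullback.lift q (pullback.snd f a) hq
    have : r' ≫ r = 𝟙 _ := by
      apply pullback.hom_ext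
      · apply pullback.hom_ext
        · simp only [r, r', Category.assoc, pullback.lift_fst, pullback.lift_snd_assoc, Category.id_comp]
          exact pullback.condition.symm
        · simp [r, r', q]
      · simp [r, r']
    have hs : Function.Surjective r := fun x => ⟨r' x, by rw [← Scheme.Hom.comp_apply, this]; rfl⟩
    exact hs.connectedSpace r.continuous
  let c : pullback f a ⟶ pullback pY g := pullback.lift (q ≫ ψ' ≫ i) (pullback.snd f a) (by
    simpa [pY'] using hq)
  have hc : c ≫ c₀ = pullback.fst f a ≫ m := by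
    apply pullback.hom_ext
    · simp only [c, c₀, m, Category.assoc, pullback.lift_fst, pullback.lift_snd_assoc, Category.comp_id]
      exact pullback.condition.symm
    · simp [c, c₀, m, q]
  have hs : ∀ j, (O.ι ≫ sec j ≫ pullback.fst v ψ) ≫ v = ψ' := fun j => by
    simp only [Category.assoc, pullback.condition, reassoc_of% hsec j]; rfl
  let u : Fin d → (pullback f a ⟶ V₀.left) := fun j =>
    q ≫ (O.ι ≫ sec j ≫ pullback.fst v ψ) ≫ pullback.fst V₀.hom i
  have hu : ∀ j, u j ≫ V₀.hom = c ≫ pullback.fst pY g := fun j => by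
    have := hs j
    simp only [u, c, Category.assoc, pullback.lift_fst, pullback.condition]
    rw [← reassoc_of% this]
    rfl
  let w : Fin d → (pullback f a ⟶ ((FEt.restrict c₀).obj Z).left) := fun j =>
    pullback.lift (u j) c (hu j) ≫ e.hom.left
  have hw : ∀ j, w j ≫ pullback.snd Z.hom c₀ = c := fun j => by
    rw [Category.assoc]
    exact (congrArg (pullback.lift (u j) c (hu j) ≫ ·) (Over.w e.hom.hom)).trans (pullback.lift_snd _ _ _)
  let σ : Fin d → (pullback f a ⟶ Zp.left) := fun j =>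
    pullback.lift (w j ≫ pullback.fst Z.hom c₀) (pullback.fst f a) (by
      rw [Category.assoc, pullback.condition, reassoc_of% hw j, hc])
  obtain ⟨T, ⟨eT⟩⟩ : (FEt.restrict f).essImage Zp := by
    refine mem_essImage_of_split f Zp a σ (fun j => pullback.lift_snd _ _ _) fun ξ hξ z => ?_
    let ww : Spec (CommRingCat.of K) ⟶ pullback f a := pullback.lift ξ (𝟙 _) (hξ.trans (Category.id_comp a).symm)
    let ev : Fin d → FEt.fiberObj ξ Zp := fun j =>
      ⟨ww ≫ σ j, (Category.assoc _ _ _).trans ((congrArg (ww ≫ ·) (pullback.lift_snd _ _ _)).trans (pullback.lift_fst _ _ _))⟩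
    have hinj : Function.Injective ev := fun j j' hjj => by
      have h1 : ww ≫ w j ≫ pullback.fst Z.hom c₀ = ww ≫ w j' ≫ pullback.fst Z.hom c₀ := by
        have := congrArg (fun x : FEt.fiberObj ξ Zp => x.1 ≫ pullback.fst Z.hom m) hjj
        simpa [ev, σ] using this
      have h2 : ww ≫ w j = ww ≫ w j' := pullback.hom_ext (by simpa using h1) (by
        rw [Category.assoc, Category.assoc]
        exact (congrArg (ww ≫ ·) (hw j)).trans (congrArg (ww ≫ ·) (hw j')).symm)
      haveI : IsIso e.hom.left :=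
        ⟨e.inv.left, congr(($(e.hom_inv_id)).left), congr(($(e.inv_hom_id)).left)⟩
      have h3 : ww ≫ pullback.lift (u j) c (hu j) = ww ≫ pullback.lift (u j') c (hu j') :=
        (cancel_mono e.hom.left).1 (by simpa [w] using h2)
      have h4 : ww ≫ u j = ww ≫ u j' := by simpa using congrArg (· ≫ pullback.fst _ _) h3
      have h5 : ww ≫ q ≫ O.ι ≫ sec j ≫ pullback.fst v ψ = ww ≫ q ≫ O.ι ≫ sec j' ≫ pullback.fst v ψ := by
        refine pullback.hom_ext (by simpa [u] using h4) ?_
        show (_ ≫ _ ≫ _ ≫ _ ≫ _) ≫ v = (_ ≫ _ ≫ _ ≫ _ ≫ _) ≫ v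
        simp only [Category.assoc, pullback.condition, reassoc_of% hsec j, reassoc_of% hsec j']
      have h6 : ww ≫ q ≫ O.ι ≫ sec j = ww ≫ q ≫ O.ι ≫ sec j' :=
        pullback.hom_ext (by simpa using h5) (by simp [hsec])
      by_contra hne
      refine Set.disjoint_left.1 (hdis j j' hne) ⟨(ww ≫ q ≫ O.ι) default, rfl⟩ ⟨(ww ≫ q ≫ O.ι) default, ?_⟩
      have h7 : (ww ≫ q ≫ O.ι) ≫ sec j = (ww ≫ q ≫ O.ι) ≫ sec j' := by
        simpa only [Category.assoc] using h6
      rw [← Scheme.Hom.comp_apply, ← Scheme.Hom.comp_apply, h7]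
    have hcard : Nat.card (FEt.fiberObj ξ Zp) = Nat.card (Fin d) := by
      let ξc := ww ≫ c
      have e1 : ξc ≫ c₀ = ξ ≫ m := by
        simp only [ξc, Category.assoc, hc]
        rw [← Category.assoc, pullback.lift_fst]
      let ξ₁ := ξ ≫ pullback.snd pX pY' ≫ ψ'
      have e2 : ξc ≫ pullback.fst pY g = ξ₁ ≫ i := by simp [ξc, c, q, ww, ξ₁]
      refine (Nat.card_congr (restrEquiv m ξ Z)).trans ?_
      rw [← e1]
      refine (Nat.card_congr (restrEquiv c₀ ξc Z)).symm.trans ?_
      refine (Nat.card_congr ((FEt.fiber ξc).mapIso e).toEquiv).symm.trans ?_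
      refine (Nat.card_congr (restrEquiv (pullback.fst pY g) ξc V₀)).trans ?_
      rw [e2]
      refine (Nat.card_congr (restrEquiv i ξ₁ V₀)).symm.trans ?_
      rw [card_fiber ξ₁ V₁, Nat.card_fin]
      exact finrank_const V₁ _ _
    obtain ⟨j, hj⟩ := (hinj.bijective_of_nat_card_le hcard.le).2 z
    exact ⟨j, congrArg Subtype.val hj⟩
  -- both slices are the base
  have key : ∀ (t₂ : Spec (CommRingCat.of k) ⟶ (O : Scheme.{u})) (z : Spec (CommRingCat.of k) ⟶ Y)
      (hz : t₂ ≫ ψ' ≫ i = z) (sz : z ≫ pY = 𝟙 _) (hz' : 𝟙 X ≫ pX = (pX ≫ z) ≫ pY),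
      Nonempty ((FEt.restrict (pullback.lift (𝟙 X) (pX ≫ z) hz')).obj Z ≅ (FEt.restrict (𝟙 X)).obj T) := by
    intro t₂ z hz sz hz'
    let r : X ⟶ pullback pX pY' := pullback.lift (𝟙 X) (pX ≫ t₂) (by
      simp only [pY', Category.assoc, reassoc_of% hz, sz, Category.comp_id, Category.id_comp])
    have hr : r ≫ m = pullback.lift (𝟙 X) (pX ≫ z) hz' := by
      apply pullback.hom_ext
      · simp [r, m]
      · simp only [r, m, Category.assoc, pullback.lift_snd, pullback.lift_snd_assoc, hz]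
    exact ⟨restrictCompIso r m _ hr Z ≪≫ (FEt.restrict r).mapIso eT.symm ≪≫
      (restrictCompIso r f _ (pullback.lift_fst _ _ _) T).symm⟩
  have ht₁ : t₁.1 ≫ ψ' ≫ i = y := by
    rw [← Category.assoc, show t₁.1 ≫ ψ' = y₁ from t₁.2, hy₁]
  have ht₁' : t₁'.1 ≫ ψ' ≫ i = y' := by
    rw [← Category.assoc, show t₁'.1 ≫ ψ' = y₁' from t₁'.2, hy₁']
  obtain ⟨d₁⟩ := key t₁.1 y ht₁ sy hy
  obtain ⟨d₂⟩ := key t₁'.1 y' ht₁' sy' hy'
  exact ⟨d₁ ≪≫ d₂.symm⟩

/-- The cover of the product restricted to two horizontal slices, `Y` proper. -/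
theorem nonempty_iso_of_proper_right (pX : X ⟶ Spec (CommRingCat.of k)) (pY : Y ⟶ Spec (CommRingCat.of k))
    [IsProper pY] [IsLocallyNoetherian X] [ConnectedSpace Y] (Z : FEt.Cat (pullback pX pY))
    (y y' : Spec (CommRingCat.of k) ⟶ Y) (hy : 𝟙 X ≫ pX = (pX ≫ y) ≫ pY)
    (hy' : 𝟙 X ≫ pX = (pX ≫ y') ≫ pY) :
    Nonempty ((FEt.restrict (pullback.lift (𝟙 X) (pX ≫ y) hy)).obj Z ≅
      (FEt.restrict (pullback.lift (𝟙 X) (pX ≫ y') hy')).obj Z) := by
  cases isEmpty_or_nonempty X
  · exact nonempty_iso_of_isEmpty _ _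
  have sy : y ≫ pY = 𝟙 _ := eq_id_of_comp pX _ (by rw [← Category.assoc, ← hy, Category.id_comp])
  have sy' : y' ≫ pY = 𝟙 _ := eq_id_of_comp pX _ (by rw [← Category.assoc, ← hy', Category.id_comp])
  refine nonempty_iso_of_components _ _ fun O hO => ?_
  haveI := hO
  let r : pullback (O.ι ≫ pX) pY ⟶ pullback pX pY := pullback.map _ _ _ _ O.ι (𝟙 _) (𝟙 _) (by simp) (by simp)
  have hs : ∀ (z : Spec (CommRingCat.of k) ⟶ Y), z ≫ pY = 𝟙 _ →
      𝟙 (O : Scheme.{u}) ≫ O.ι ≫ pX = ((O.ι ≫ pX) ≫ z) ≫ pY := fun z hz => by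
    rw [Category.id_comp, Category.assoc, hz, Category.comp_id]
  have hr : ∀ (z : Spec (CommRingCat.of k) ⟶ Y) (hz : z ≫ pY = 𝟙 _) (hz' : 𝟙 X ≫ pX = (pX ≫ z) ≫ pY),
      pullback.lift (𝟙 (O : Scheme.{u})) ((O.ι ≫ pX) ≫ z) (hs z hz) ≫ r =
        O.ι ≫ pullback.lift (𝟙 X) (pX ≫ z) hz' := fun z hz hz' => by
    apply pullback.hom_ext
    · simp [r]; exact Category.id_comp _
    · simp [r]
  obtain ⟨e⟩ := nonempty_iso_of_connected (O.ι ≫ pX) pY ((FEt.restrict r).obj Z) y y' sy sy' (hs y sy) (hs y' sy')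
  exact ⟨(restrictCompIso O.ι _ _ rfl Z).symm ≪≫ restrictCompIso _ r _ (hr y sy hy) Z ≪≫ e ≪≫
    (restrictCompIso _ r _ (hr y' sy' hy') Z).symm ≪≫ restrictCompIso O.ι _ _ rfl Z⟩

end Groth.Agent.ConstFam21
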